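import Cfsg.Agent.GH.Models.Proj
import Cfsg.Agent.GH.PcTypes
import Cfsg.Agent.GH.Defs
import Cfsg.Agent.ClassificationK.GTwoSylow
import Cfsg.Agent.S1059

/-!
# The group `G23` is a Sylow 2-subgroup of `G₂(3)`
-/

set_option autoImplicit false

namespace Cfsg.Agent.GH.Models.G23

open Cfsg.Agent.GH.Pc Cfsg.Agent.GH.PcTypes Cfsg.Agent.GH.Models.Proj
open Cfsg.Agent.ClassificationK.GTwoModel

instance : Fact (Nat.Prime 3) := ⟨by norm_num⟩

instance {m : ℕ} : DecidableEq (T m) := fun x y =>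
  decidable_of_iff (T.equivProd m x = T.equivProd m y) (T.equivProd m).injective.eq_iff

/-- `r s p q p² q²` -/
def y : Fin 6 → T (2 * 2) := ![
  ⟨0, 0, false, true⟩, ⟨0, 0, true, false⟩, ⟨1, 0, false, false⟩, ⟨0, 1, false, false⟩,
  ⟨2, 0, false, false⟩, ⟨0, 2, false, false⟩]

theorem sq_y : ∀ i, y i * y i = word y (PcTypes.G23.sq i) := by decide +kernel

theorem cj_y : ∀ i j, i < j → y i * y j = word y (PcTypes.G23.cj i j) * y i := by decide +kernel

theorem sat_y : Sat PcTypes.G23 y := ⟨sq_y, cj_y⟩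

def chk (e : Fin 6 → Bool) : Bool := isZ e || !(decide (nf y e = 1))

theorem nf_y : allB 6 chk = true := by decide +kernel

theorem nf_ne (e : Fin 6 → Bool) (he : nf y e = 1) : e = fun _ => false := by
  have h1 := allB_spec nf_y e
  rw [chk, Bool.or_eq_true] at h1
  rcases h1 with h1 | h1
  · exact isZ_spec h1
  · exfalso
    rw [Bool.not_eq_true', decide_eq_false_iff_not] at h1
    exact h1 he

/-- `G23` is the model group `T 4`. -/
theorem nonempty_equiv {S : Type*} [Group S] (h : IsType PcTypes.G23 S) :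
    Nonempty (S ≃* T (2 * 2)) := by
  have h64 : Nat.card (T (2 * 2)) = 64 := by rw [T.card_T]; norm_num
  obtain ⟨P, ⟨e⟩⟩ := h.exists_sylow G23_ok sat_y nf_ne (by rw [h64]; norm_num)
  have hP : (P : Subgroup (T (2 * 2))) = ⊤ := by
    apply Subgroup.eq_top_of_card_eq
    rw [← Nat.card_congr e.toEquiv, h.1, h64]
    norm_num
  exact ⟨e.trans ((MulEquiv.subgroupCongr hP).trans Subgroup.topEquiv)⟩

theorem exists_sylow_G23 (P : Sylow 2 ↥(Lie.chevG2.group (ZMod 3))) :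
    Nonempty (T (2 * 2) ≃* ↥(P : Subgroup ↥(Lie.chevG2.group (ZMod 3)))) := by
  have hcard : Nat.card ↥(Lie.chevG2.group (ZMod 3)) = 3 ^ 6 * (3 ^ 2 - 1) * (3 ^ 6 - 1) :=
    S1059.result (ZMod.card 3)
  obtain ⟨k, hk, ⟨e⟩⟩ := ClassificationK.GTwoSylow.exists_equiv (F := ZMod 3)
    (by rw [ZMod.card]; decide) (by rw [ZMod.card]; exact hcard) P
  have h1 : 4 * (2 * 2 ^ k) ^ 2 ∣ 4245696 := by
    rw [← T.card_T, Nat.card_congr e.toEquiv, show 4245696 = Nat.card ↥(Lie.chevG2.group (ZMod 3)) by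
      rw [hcard]; norm_num]
    exact Subgroup.card_subgroup_dvd_card _
  have h2 : k = 1 := by
    by_contra hne
    obtain ⟨l, rfl⟩ : ∃ l, k = l + 2 := ⟨k - 2, by omega⟩
    have h3 : 4 * (2 * 2 ^ (l + 2)) ^ 2 = 256 * (2 ^ l) ^ 2 := by ring
    rw [h3] at h1
    have h4 := (Dvd.intro _ rfl).trans h1
    norm_num at h4
  subst h2
  exact ⟨e⟩

theorem sylOf {S : Type*} [Group S] (h : IsType PcTypes.G23 S) :
    Defs.SylOf S ↥(Lie.chevG2.group (ZMod 3)) := by
  obtain ⟨e⟩ := nonempty_equiv h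
  obtain ⟨f⟩ := exists_sylow_G23 default
  exact ⟨default, ⟨e.trans f⟩⟩

/-- `G23` is of type `G₂(3)`. -/
theorem typeG2 {S : Type*} [Group S] (h : IsType PcTypes.G23 S) : Defs.TypeG2 S :=
  ⟨ZMod 3, inferInstance, inferInstance, by rw [ZMod.card]; decide, sylOf h⟩

end Cfsg.Agent.GH.Models.G23
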