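import Cfsg.Agent.GH.Models.Proj
import Cfsg.Agent.GH.PcTypes
import Cfsg.Agent.GH.Defs
import Cfsg.Agent.LieClassical.SympCenter
import Cfsg.Agent.LieClassical.SympCount

/-!
# The group `W24` is a Sylow 2-subgroup of `PSp₄(3)`
-/

set_option autoImplicit false

namespace Cfsg.Agent.GH.Models.PSp43

open Cfsg.Agent.GH.Pc Cfsg.Agent.GH.PcTypes Cfsg.Agent.GH.Models.Proj Matrix
open Cfsg.Agent.LieClassical

section psp

variable {m : ℕ} {F : Type*} [Field F]

/-- Inclusion of `Sp` in the matrices. -/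
def inc : symplecticGroup (Fin m) F →* Matrix (Fin m ⊕ Fin m) (Fin m ⊕ Fin m) F where
  toFun A := A.1
  map_one' := rfl
  map_mul' _ _ := rfl

theorem mk_eq [NeZero m] {X Y : symplecticGroup (Fin m) F} {c : F} (h : X.1 = c • Y.1) :
    (QuotientGroup.mk X : Cfsg.PSp m F) = QuotientGroup.mk Y := by
  have : Nonempty (Fin m ⊕ Fin m) := ⟨Sum.inl 0⟩
  have hZ : c • (X⁻¹ * Y).1 = 1 := by
    have h1 : (X⁻¹ * X).1 = 1 := by rw [inv_mul_cancel]; rfl
    rw [← h1]
    change c • ((X⁻¹).1 * Y.1) = (X⁻¹).1 * X.1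
    rw [h, Matrix.mul_smul]
  have hc : c ≠ 0 := by
    rintro rfl
    rw [zero_smul] at hZ
    exact zero_ne_one hZ
  refine QuotientGroup.eq.2 ((SympCenter.mem_center_iff m _).2 ⟨c⁻¹, ?_⟩)
  rw [← hZ, smul_smul, inv_mul_cancel₀ hc, one_smul]

theorem scalar_of_mk {X : symplecticGroup (Fin m) F}
    (h : (QuotientGroup.mk X : Cfsg.PSp m F) = 1) : ∃ c : F, X.1 = c • 1 :=
  (SympCenter.mem_center_iff m X).1 ((QuotientGroup.eq_one_iff X).1 h)

/-- No normal word is scalar. -/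
def chk [Fintype F] [DecidableEq F] {n : ℕ} (A : Fin n → Matrix (Fin m ⊕ Fin m) (Fin m ⊕ Fin m) F)
    (e : Fin n → Bool) : Bool :=
  isZ e || !(decide (∃ c : F, wd A ((List.finRange n).filter fun i => e i) =
    c • (1 : Matrix (Fin m ⊕ Fin m) (Fin m ⊕ Fin m) F)))

theorem sylOf_psp [NeZero m] [Fintype F] [DecidableEq F] {n : ℕ} {P : Pres n} (hP : P.Ok) {G : Type*}
    [Group G] {x : Fin n → G} (hx : Sat P x) (htop : Subgroup.closure (Set.range x) = ⊤)
    (hc : Nat.card G = 2 ^ n) (A : Fin n → Matrix (Fin m ⊕ Fin m) (Fin m ⊕ Fin m) F)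
    (hdet : ∀ i, A i ∈ symplecticGroup (Fin m) F)
    (hsq : ∀ i, ∃ c : F, A i * A i = c • wd A (P.sq i))
    (hcj : ∀ i j, i < j → ∃ c : F, A i * A j = c • (wd A (P.cj i j) * A i))
    (hn : allB n (chk A) = true)
    (hH : ¬ 2 ^ (n + 1) ∣ Nat.card (Cfsg.PSp m F)) :
    ∃ S : Sylow 2 (Cfsg.PSp m F),
      Nonempty (G ≃* ↥(S : Subgroup (Cfsg.PSp m F))) := by
  have : Finite (Cfsg.PSp m F) := Quotient.finite _
  let Y : Fin n → symplecticGroup (Fin m) F := fun i => ⟨A i, hdet i⟩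
  let pr : symplecticGroup (Fin m) F →* Cfsg.PSp m F := QuotientGroup.mk' _
  have hw : ∀ l, (word Y l).1 = wd A l := fun l => map_wd inc Y l
  have hwp : ∀ l, word (fun i => pr (Y i)) l = pr (word Y l) := fun l => (map_word pr Y l).symm
  have hy : Sat P (fun i => pr (Y i)) := by
    constructor
    · intro i
      rw [hwp, ← map_mul]
      obtain ⟨c, hc⟩ := hsq i
      refine mk_eq (c := c) ?_
      rw [hw]
      exact hc
    · intro i j hij
      rw [hwp, ← map_mul, ← map_mul]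
      obtain ⟨c, hc⟩ := hcj i j hij
      refine mk_eq (c := c) ?_
      change A i * A j = c • ((word Y (P.cj i j)).1 * A i)
      rw [hw]
      exact hc
  refine exists_sylow hP hx hy htop hc (fun e he => ?_) hH
  have h1 := allB_spec hn e
  rw [chk, Bool.or_eq_true] at h1
  rcases h1 with h1 | h1
  · exact isZ_spec h1
  · exfalso
    rw [Bool.not_eq_true', decide_eq_false_iff_not] at h1
    apply h1
    unfold nf at he
    rw [hwp] at he
    obtain ⟨c, hc⟩ := scalar_of_mk he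
    exact ⟨c, by rw [← hw]; exact hc⟩

end psp

instance : Fact (Nat.Prime 3) := ⟨by norm_num⟩

abbrev F := ZMod 3

/-- `a b e e_a e_b e_ab` -/
def A : Fin 6 → Matrix (Fin 2 ⊕ Fin 2) (Fin 2 ⊕ Fin 2) F := ![
  fromBlocks !![0,0; 0,1] !![1,0; 0,1] !![2,0; 0,1] !![0,0; 0,2],
  fromBlocks !![1,0; 0,0] !![2,0; 0,1] !![2,0; 0,2] !![2,0; 0,0],
  fromBlocks !![0,0; 0,0] !![0,1; 1,0] !![0,2; 2,0] !![0,0; 0,0],
  fromBlocks !![0,1; 1,0] !![0,1; 1,0] !![0,1; 1,0] !![0,2; 2,0],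
  fromBlocks !![0,1; 1,0] !![0,2; 2,0] !![0,2; 2,0] !![0,2; 2,0],
  fromBlocks !![0,1; 2,0] !![0,0; 0,0] !![0,0; 0,0] !![0,1; 2,0]]

theorem mem_A : ∀ i, A i * J (Fin 2) F * (A i)ᵀ = J (Fin 2) F := by decide +kernel

theorem sq_A : ∀ i, ∃ c : F, A i * A i = c • wd A (W24.sq i) := by decide +kernel

theorem cj_A : ∀ i j, i < j → ∃ c : F, A i * A j = c • (wd A (W24.cj i j) * A i) := by
  decide +kernel

theorem nf_A : allB 6 (chk A) = true := by decide +kernel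

theorem card_PSp : Nat.card (Cfsg.PSp 2 F) = 2 ^ 6 * 405 := by
  have h := Subgroup.card_eq_card_quotient_mul_card_subgroup
    (Subgroup.center (symplecticGroup (Fin 2) F))
  rw [SympCenter.card_center (by norm_num : 1 ≤ 2), SympCount.card_symplecticGroup,
    Finset.prod_range_succ, Finset.prod_range_succ, Finset.prod_range_zero, ZMod.card] at h
  have h2 : Nat.gcd 2 (3 - 1) = 2 := by norm_num
  rw [h2, show (3 : ℕ) ^ 2 ^ 2 * (1 * (3 ^ (2 * (0 + 1)) - 1) * (3 ^ (2 * (1 + 1)) - 1)) = 51840 by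
    norm_num] at h
  change 51840 = Nat.card (Cfsg.PSp 2 F) * 2 at h
  norm_num
  omega

theorem not_dvd : ¬ 2 ^ (6 + 1) ∣ Nat.card (Cfsg.PSp 2 F) := by
  rw [card_PSp]
  norm_num

theorem sylOf {T : Type*} [Group T] (h : IsType W24 T) : Defs.SylOf T (Cfsg.PSp 2 F) := by
  obtain ⟨h1, x, h2, h3⟩ := h
  exact sylOf_psp W24_ok h2 h3 h1 A (fun i => SymplecticGroup.mem_iff.2 (mem_A i)) sq_A cj_A nf_A
    not_dvd

/-- `W24` is of type `PSp₄(3)`. -/
theorem typeSp4 {T : Type*} [Group T] (h : IsType W24 T) : Defs.TypeSp4 T :=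
  ⟨F, inferInstance, inferInstance, by rw [ZMod.card]; decide, sylOf h⟩

end Cfsg.Agent.GH.Models.PSp43
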