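import Cfsg.Agent.GH.C2Syl
import Cfsg.Agent.GH.Defs
import Cfsg.Agent.SylowL.Compare

/-!
# `UT₃(4)`: the Sylow 2-subgroup of `PSL₃(4)`
-/

set_option autoImplicit false

namespace Cfsg.Agent.GH.Models.UT34

open Cfsg.Agent.GH.Pc Cfsg.Agent.GH.PcTypes Cfsg.Agent.GH.C2Syl
open Cfsg.Agent.SylowL.UT Cfsg.Agent.SylowL.Lev Cfsg.Agent.SylowL.Lower

section h

variable {F : Type*} [Field F]

theorem mat_mem (x y z : F) : !![0, x, z; 0, 0, y; 0, 0, 0] ∈ lev 3 F 1 := by
  rw [mem_lev']
  intro i j hij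
  fin_cases i <;> fin_cases j <;> first
    | rfl
    | (exfalso; revert hij; decide)

/-- The unitriangular matrix with entries `x`, `y`, `z`. -/
def h (x y z : F) : UT 3 F := mk !![0, x, z; 0, 0, y; 0, 0, 0] (mat_mem x y z)

theorem h_mul (x y z x' y' z' : F) :
    h x y z * h x' y' z' = h (x + x') (y + y') (z + z' + x * y') := by
  apply N_injective
  rw [N_mul]
  simp only [h, N_mk]
  ext i j
  fin_cases i <;> fin_cases j <;> simp

theorem h_zero : h (0 : F) 0 0 = 1 := by
  have h1 := h_mul (0 : F) 0 0 0 0 0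
  simp only [add_zero, mul_zero] at h1
  exact mul_eq_left.mp h1

theorem h_inj {x y z x' y' z' : F} (he : h x y z = h x' y' z') : x = x' ∧ y = y' ∧ z = z' := by
  have h1 := congrArg N he
  simp only [h, N_mk] at h1
  have h2 := congrFun (congrFun h1 0) 1
  have h3 := congrFun (congrFun h1 1) 2
  have h4 := congrFun (congrFun h1 0) 2
  simp at h2 h3 h4
  exact ⟨h2, h3, h4⟩

/-- The family. -/
def y (ω : F) : Fin 6 → UT 3 F := ![h 1 0 0, h ω 0 0, h 0 1 0, h 0 ω 0, h 0 0 1, h 0 0 ω]

theorem sat_y [CharP F 2] {ω : F} (hω : ω * ω = 1 + ω) : Sat UT34 (y ω) := by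
  have e2 : ∀ a : F, a + a = 0 := CharTwo.add_self_eq_zero
  unfold y
  apply sat_UT34 <;> simp only [h_mul, ← h_zero (F := F)] <;> congr 1 <;>
    first | rfl | (simp [e2, hω]; done) | (ring_nf; done)

theorem nf_y {ω : F} (h0 : ω ≠ 0) (h1 : 1 + ω ≠ 0) (e : Fin 6 → Bool) (he : nf (y ω) e = 1) :
    e = fun _ => false := by
  have key : ∀ a b : Bool, (if a then (1 : F) else 0) + (if b then ω else 0) = 0 →
      a = false ∧ b = false := by
    intro a b hab
    cases a <;> cases b <;> simp_all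
  have hx : nf (y ω) e = h ((if e 0 then (1 : F) else 0) + (if e 1 then ω else 0))
      ((if e 2 then (1 : F) else 0) + (if e 3 then ω else 0))
      (((if e 0 then (1 : F) else 0) + (if e 1 then ω else 0)) *
        ((if e 2 then (1 : F) else 0) + (if e 3 then ω else 0)) +
        ((if e 4 then (1 : F) else 0) + (if e 5 then ω else 0))) := by
    unfold nf
    rw [show List.finRange 6 = [0, 1, 2, 3, 4, 5] from rfl]
    have hw : ∀ (l : List (Fin 6)) (i : Fin 6), word (y ω) ((i :: l).filter fun j => e j) =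
        (if e i then y ω i else 1) * word (y ω) (l.filter fun j => e j) := by
      intro l i
      cases hi : e i <;> simp [hi]
    rw [hw, hw, hw, hw, hw, hw]
    simp only [List.filter_nil, word_nil, mul_one]
    have hif : ∀ (b : Bool) (g : UT 3 F), (if b then g else 1) = if b then g else h 0 0 0 := by
      intro b g; rw [h_zero]
    simp only [hif]
    have a0 : ∀ b : Bool, (if b then y ω 0 else h 0 0 0) = h (if b then 1 else 0) 0 0 := by
      intro b; cases b <;> rfl
    have a1 : ∀ b : Bool, (if b then y ω 1 else h 0 0 0) = h (if b then ω else 0) 0 0 := by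
      intro b; cases b <;> rfl
    have a2 : ∀ b : Bool, (if b then y ω 2 else h 0 0 0) = h 0 (if b then 1 else 0) 0 := by
      intro b; cases b <;> rfl
    have a3 : ∀ b : Bool, (if b then y ω 3 else h 0 0 0) = h 0 (if b then ω else 0) 0 := by
      intro b; cases b <;> rfl
    have a4 : ∀ b : Bool, (if b then y ω 4 else h 0 0 0) = h 0 0 (if b then 1 else 0) := by
      intro b; cases b <;> rfl
    have a5 : ∀ b : Bool, (if b then y ω 5 else h 0 0 0) = h 0 0 (if b then ω else 0) := by
      intro b; cases b <;> rfl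
    rw [a0, a1, a2, a3, a4, a5]
    simp only [h_mul]
    congr 1 <;> ring
  rw [hx, ← h_zero] at he
  obtain ⟨e1, e2, e3⟩ := h_inj he
  rw [e1, zero_mul, zero_add] at e3
  obtain ⟨k0, k1⟩ := key _ _ e1
  obtain ⟨k2, k3⟩ := key _ _ e2
  obtain ⟨k4, k5⟩ := key _ _ e3
  funext i
  fin_cases i <;> assumption

end h

/-- A group of type `UT34` is a Sylow 2-subgroup of `PSL₃(4)`. -/
theorem sylOf {T : Type*} [Group T] (hT : IsType PcTypes.UT34 T) (F : Type) [Field F] [Fintype F]
    (hF : Fintype.card F = 4) :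
    Defs.SylOf T (Matrix.ProjectiveSpecialLinearGroup (Fin 3) F) := by
  have hp : Fact (Nat.Prime 2) := ⟨Nat.prime_two⟩
  have hc : CharP F 2 := by
    have : Fintype.card F = 2 ^ 2 := by rw [hF]; norm_num
    exact charP_of_card_eq_prime_pow this
  obtain ⟨ω, h0, h1⟩ : ∃ ω : F, ω ≠ 0 ∧ ω ≠ 1 := by
    classical
    by_contra hcon
    push Not at hcon
    have h2 : (Finset.univ : Finset F) ⊆ {0, 1} := by
      intro x _
      by_cases hx : x = 0
      · simp [hx]
      · simp [hcon x hx]
    have h3 := Finset.card_le_card h2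
    rw [Finset.card_univ, hF] at h3
    have h4 := Finset.card_le_two (a := (0 : F)) (b := 1)
    omega
  have h3 : ω ^ 3 = 1 := by
    have := FiniteField.pow_card_sub_one_eq_one ω h0
    rwa [hF] at this
  have hω : ω * ω = 1 + ω := by
    have h4 : (ω - 1) * (ω * ω + ω + 1) = 0 := by
      have : (ω - 1) * (ω * ω + ω + 1) = ω ^ 3 - 1 := by ring
      rw [this, h3, sub_self]
    rcases mul_eq_zero.mp h4 with h5 | h5
    · exact absurd (sub_eq_zero.mp h5) h1
    · have e2 : ∀ a : F, a + a = 0 := CharTwo.add_self_eq_zero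
      have h6 : ω * ω = -(ω + 1) := by
        rw [eq_neg_iff_add_eq_zero, ← add_assoc]; exact h5
      rw [h6, CharTwo.neg_eq, add_comm]
  have h1' : 1 + ω ≠ 0 := by
    intro h5
    rw [← hω] at h5
    exact h0 (mul_self_eq_zero.mp h5)
  obtain ⟨c, x, hx, htop⟩ := hT
  have hcc : Nat.card ↥(Subgroup.closure (Set.range x)) = 2 ^ 6 := by
    rw [htop, Subgroup.card_top, c]
  obtain ⟨hcard, f, -⟩ := exists_equiv_of_nf UT34_ok hx (sat_y hω) hcc (nf_y h0 h1')
  have h64 : Nat.card (UT 3 F) = 64 := by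
    rw [card_UT, Nat.card_eq_fintype_card, hF]
    norm_num
  have htop' : Subgroup.closure (Set.range (y ω)) = ⊤ := by
    have : Finite (UT 3 F) := Nat.finite_of_card_ne_zero (by rw [h64]; norm_num)
    apply Subgroup.eq_top_of_card_eq
    rw [hcard, h64]
    norm_num
  have P : Sylow 2 (Matrix.ProjectiveSpecialLinearGroup (Fin 3) F) := default
  obtain ⟨g⟩ := Cfsg.Agent.SylowL.SylowPSL.sylow_equiv 2 P
  refine ⟨P, ⟨?_⟩⟩
  exact (Subgroup.topEquiv.symm.trans (MulEquiv.subgroupCongr htop.symm)).trans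
    (f.trans ((MulEquiv.subgroupCongr htop').trans (Subgroup.topEquiv.trans g.symm)))

/-- A group of type `UT34` is of type `L₃(4)`. -/
theorem typeL34 {T : Type*} [Group T] (hT : IsType PcTypes.UT34 T) : Defs.TypeL34 T := by
  have hp : Fact (Nat.Prime 2) := ⟨Nat.prime_two⟩
  have : Finite (GaloisField 2 2) := Nat.finite_of_card_ne_zero (by
    rw [GaloisField.card 2 2 (by norm_num)]; norm_num)
  let i : Fintype (GaloisField 2 2) := Fintype.ofFinite _
  have h4 : Fintype.card (GaloisField 2 2) = 4 := by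
    rw [← Nat.card_eq_fintype_card, GaloisField.card 2 2 (by norm_num)]
    norm_num
  exact ⟨GaloisField 2 2, inferInstance, i, h4, sylOf hT _ h4⟩

end Cfsg.Agent.GH.Models.UT34
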