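import Cfsg.Agent.GH.Models.Proj
import Cfsg.Agent.GH.PcTypes
import Cfsg.Agent.GH.Defs

/-!
# The group `M22T` is a Sylow 2-subgroup of `PSL₄(5)`
-/

set_option autoImplicit false

namespace Cfsg.Agent.GH.Models.PSL45

open Cfsg.Agent.GH.Pc Cfsg.Agent.GH.PcTypes Cfsg.Agent.GH.Models.Proj Matrix

instance : Fact (Nat.Prime 5) := ⟨by norm_num⟩

abbrev F := ZMod 5

/-- `t a b v₁ v₂ u₁ u₂` -/
def A : Fin 7 → Matrix (Fin 4) (Fin 4) F := ![
  !![0,0,1,0; 0,1,0,0; 1,0,0,0; 0,0,0,4],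
  !![0,0,4,0; 0,0,0,4; 1,0,0,0; 0,1,0,0],
  !![0,0,0,1; 0,0,1,0; 0,1,0,0; 1,0,0,0],
  !![0,0,4,0; 0,0,0,2; 1,0,0,0; 0,2,0,0],
  !![0,0,0,1; 0,0,3,0; 0,2,0,0; 1,0,0,0],
  !![1,0,0,0; 0,4,0,0; 0,0,1,0; 0,0,0,4],
  !![1,0,0,0; 0,1,0,0; 0,0,4,0; 0,0,0,4]]

theorem det_A : ∀ i, (A i).det = 1 := by decide +kernel

theorem sq_A : ∀ i, ∃ c : F, A i * A i = c • wd A (M22T.sq i) := by decide +kernel

theorem cj_A : ∀ i j, i < j → ∃ c : F, A i * A j = c • (wd A (M22T.cj i j) * A i) := by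
  decide +kernel

theorem nf_A : allB 7 (chk A) = true := by decide +kernel

theorem card_SL : Nat.card (SpecialLinearGroup (Fin 4) F) = 2 ^ 9 * 56671875 := by
  have h := S0276.card_sl_mul (F := F) 4
  rw [Matrix.card_GL_field] at h
  simp only [Nat.card_eq_fintype_card, Fintype.card_units, ZMod.card, Fin.prod_univ_four] at h
  rw [Nat.card_eq_fintype_card]
  norm_num at h ⊢
  omega

theorem not_dvd : ¬ 2 ^ (7 + 1) ∣ Nat.card (ProjectiveSpecialLinearGroup (Fin 4) F) := by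
  refine not_dvd_psl card_SL (by decide) (n := 2) (c := 2) (by decide) ?_ (by norm_num)
  rw [show (2 : ZMod 5) = 2 from rfl]
  have h : orderOf (2 : ZMod 5) = 2 ^ (1 + 1) := by
    apply orderOf_eq_prime_pow
    · decide
    · decide
  rw [h]

theorem sylOf {T : Type*} [Group T] (h : IsType M22T T) :
    Defs.SylOf T (ProjectiveSpecialLinearGroup (Fin 4) F) := by
  obtain ⟨h1, x, h2, h3⟩ := h
  exact sylOf_psl M22T_ok h2 h3 h1 A det_A sq_A cj_A nf_A not_dvd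

/-- `M22T` is of type `PSL₄(5)`. -/
theorem typeL4 {T : Type*} [Group T] (h : IsType M22T T) : Defs.TypeL4 T :=
  ⟨F, inferInstance, inferInstance, by rw [ZMod.card]; decide, sylOf h⟩

end Cfsg.Agent.GH.Models.PSL45
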