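import Cfsg.Agent.GH.Pc
import Cfsg.Agent.S0276

/-!
# Polycyclic families in `PSL (Fin 4) F`

`sylOf_psl`: if `x` generates a group `G` of order `2 ^ n` and satisfies the polycyclic relations `P`, if
the matrices `A i` of determinant 1 satisfy the same relations up to scalars, no normal word in the `A i`
is scalar and `2 ^ (n + 1)` does not divide `|PSL|`, then `G` is a Sylow 2-subgroup of `PSL`.
-/

set_option autoImplicit false

namespace Cfsg.Agent.GH.Models.Proj

open Cfsg.Agent.GH.Pc Matrix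

/-- Conjunction over all Boolean vectors. -/
def allB : (n : ℕ) → ((Fin n → Bool) → Bool) → Bool
  | 0, p => p ![]
  | n + 1, p => allB n (fun e => p (Fin.cons true e)) && allB n (fun e => p (Fin.cons false e))

theorem allB_spec : ∀ {n : ℕ} {p : (Fin n → Bool) → Bool}, allB n p = true → ∀ e, p e = true
  | 0, p, h, e => by
    have : e = ![] := Subsingleton.elim _ _
    rw [this]; exact h
  | n + 1, p, h, e => by
    rw [allB, Bool.and_eq_true] at h
    have h1 := Fin.cons_self_tail e
    rcases h2 : e 0 with _ | _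
    · rw [← h1, h2]; exact allB_spec h.2 _
    · rw [← h1, h2]; exact allB_spec h.1 _

/-- The value of a word in a monoid. -/
def wd {n : ℕ} {M : Type*} [Monoid M] (A : Fin n → M) (l : List (Fin n)) : M := (l.map A).prod

theorem map_wd {n : ℕ} {M G : Type*} [Monoid M] [Group G] (f : G →* M) (A : Fin n → G)
    (l : List (Fin n)) : f (word A l) = wd (fun i => f (A i)) l := by
  induction l with
  | nil => simp [wd]
  | cons i l ih => rw [word_cons, map_mul, ih]; simp [wd]

/-- The zero vector. -/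
def isZ {n : ℕ} (e : Fin n → Bool) : Bool := (List.finRange n).all fun i => !(e i)

theorem isZ_spec {n : ℕ} {e : Fin n → Bool} (h : isZ e = true) : e = fun _ => false := by
  funext i
  have := List.all_eq_true.1 h i (List.mem_finRange i)
  simpa using this

section psl

variable {m : ℕ} {F : Type*} [Field F]

/-- Inclusion of `SL` in the matrices. -/
def inc : SpecialLinearGroup (Fin m) F →* Matrix (Fin m) (Fin m) F where
  toFun A := A.1
  map_one' := rfl
  map_mul' _ _ := rfl

theorem mk_eq [NeZero m] {X Y : SpecialLinearGroup (Fin m) F} {c : F} (h : X.1 = c • Y.1) :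
    (X : ProjectiveSpecialLinearGroup (Fin m) F) = Y := by
  have hZ : c • (X⁻¹ * Y).1 = 1 := by
    have h1 : (X⁻¹ * X).1 = 1 := by rw [inv_mul_cancel]; rfl
    rw [← h1]
    change c • ((X⁻¹).1 * Y.1) = (X⁻¹).1 * X.1
    rw [h, Matrix.mul_smul]
  have hc : c ≠ 0 := by
    rintro rfl
    rw [zero_smul] at hZ
    exact zero_ne_one hZ
  refine QuotientGroup.eq.2 (Subgroup.mem_center_iff.2 fun g => Subtype.ext ?_)
  change g.1 * (X⁻¹ * Y).1 = (X⁻¹ * Y).1 * g.1
  have h2 : c • (g.1 * (X⁻¹ * Y).1) = c • ((X⁻¹ * Y).1 * g.1) := by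
    rw [← Matrix.mul_smul, hZ, Matrix.mul_one, ← Matrix.smul_mul, hZ, Matrix.one_mul]
  have h3 := congrArg (fun M => c⁻¹ • M) h2
  simpa only [smul_smul, inv_mul_cancel₀ hc, one_smul] using h3

theorem scalar_of_mk {X : SpecialLinearGroup (Fin m) F}
    (h : (X : ProjectiveSpecialLinearGroup (Fin m) F) = 1) : ∃ c : F, X.1 = c • 1 := by
  have h1 : X ∈ Subgroup.center (SpecialLinearGroup (Fin m) F) := (QuotientGroup.eq_one_iff X).1 h
  obtain ⟨r, -, h2⟩ := Matrix.SpecialLinearGroup.mem_center_iff.1 h1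
  exact ⟨r, by rw [← h2, Matrix.smul_one_eq_diagonal]; rfl⟩

/-- No normal word is scalar. -/
def chk [Fintype F] [DecidableEq F] {n : ℕ} (A : Fin n → Matrix (Fin m) (Fin m) F)
    (e : Fin n → Bool) : Bool :=
  isZ e || !(decide (∃ c : F, wd A ((List.finRange n).filter fun i => e i) = c • (1 : Matrix (Fin m) (Fin m) F)))

theorem sylOf_psl [NeZero m] [Fintype F] [DecidableEq F] {n : ℕ} {P : Pres n} (hP : P.Ok) {G : Type*} [Group G]
    {x : Fin n → G} (hx : Sat P x) (htop : Subgroup.closure (Set.range x) = ⊤)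
    (hc : Nat.card G = 2 ^ n) (A : Fin n → Matrix (Fin m) (Fin m) F) (hdet : ∀ i, (A i).det = 1)
    (hsq : ∀ i, ∃ c : F, A i * A i = c • wd A (P.sq i))
    (hcj : ∀ i j, i < j → ∃ c : F, A i * A j = c • (wd A (P.cj i j) * A i))
    (hn : allB n (chk A) = true)
    (hH : ¬ 2 ^ (n + 1) ∣ Nat.card (ProjectiveSpecialLinearGroup (Fin m) F)) :
    ∃ S : Sylow 2 (ProjectiveSpecialLinearGroup (Fin m) F),
      Nonempty (G ≃* ↥(S : Subgroup (ProjectiveSpecialLinearGroup (Fin m) F))) := by
  have : Finite (ProjectiveSpecialLinearGroup (Fin m) F) := Quotient.finite _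
  let Y : Fin n → SpecialLinearGroup (Fin m) F := fun i => ⟨A i, hdet i⟩
  let pr : SpecialLinearGroup (Fin m) F →* ProjectiveSpecialLinearGroup (Fin m) F :=
    QuotientGroup.mk' _
  have hw : ∀ l, (word Y l).1 = wd A l := fun l => map_wd inc Y l
  have hwp : ∀ l, word (fun i => pr (Y i)) l = pr (word Y l) := fun l => (map_word pr Y l).symm
  have hy : Sat P (fun i => pr (Y i)) := by
    constructor
    · intro i
      rw [hwp, ← map_mul]
      obtain ⟨c, hc⟩ := hsq i
      refine mk_eq (c := c) ?_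
      rw [hw]
      exact hc
    · intro i j hij
      rw [hwp, ← map_mul, ← map_mul]
      obtain ⟨c, hc⟩ := hcj i j hij
      refine mk_eq (c := c) ?_
      change A i * A j = c • ((word Y (P.cj i j)).1 * A i)
      rw [hw]
      exact hc
  refine exists_sylow hP hx hy htop hc (fun e he => ?_) hH
  have h1 := allB_spec hn e
  rw [chk, Bool.or_eq_true] at h1
  rcases h1 with h1 | h1
  · exact isZ_spec h1
  · exfalso
    rw [Bool.not_eq_true', decide_eq_false_iff_not] at h1
    apply h1
    unfold nf at he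
    rw [hwp] at he
    obtain ⟨c, hc⟩ := scalar_of_mk he
    exact ⟨c, by rw [← hw]; exact hc⟩

end psl

/-- The 2-part of `|PSL|`. -/
theorem not_dvd_psl {m : ℕ} [NeZero m] {F : Type*} [Field F] [Fintype F] {k n r : ℕ}
    (h : Nat.card (SpecialLinearGroup (Fin m) F) = 2 ^ k * r) (hr : Odd r) {c : F}
    (hc : c ^ m = 1) (hcd : 2 ^ n ∣ orderOf c) {s : ℕ} (hs : k < s + n) :
    ¬ 2 ^ s ∣ Nat.card (ProjectiveSpecialLinearGroup (Fin m) F) := by
  intro hd
  have h1 := Subgroup.card_eq_card_quotient_mul_card_subgroup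
    (Subgroup.center (SpecialLinearGroup (Fin m) F))
  have hc0 : (scalar (Fin m) c).det = 1 := by
    rw [Matrix.scalar_apply, Matrix.det_diagonal]
    simp [hc]
  let z : SpecialLinearGroup (Fin m) F := ⟨scalar (Fin m) c, hc0⟩
  have hz : z ∈ Subgroup.center (SpecialLinearGroup (Fin m) F) :=
    Matrix.SpecialLinearGroup.mem_center_iff.2 ⟨c, by simpa using hc, rfl⟩
  have hzo : orderOf c ∣ orderOf z := by
    apply orderOf_dvd_of_pow_eq_one
    have h2 : inc (z ^ orderOf z) = 1 := by rw [pow_orderOf_eq_one]; rfl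
    rw [map_pow] at h2
    change (scalar (Fin m) c) ^ orderOf z = 1 at h2
    rw [← map_pow] at h2
    have h3 := congrFun (congrFun h2 0) 0
    simpa using h3
  have h4 : 2 ^ n ∣ Nat.card (Subgroup.center (SpecialLinearGroup (Fin m) F)) := by
    refine (hcd.trans hzo).trans ?_
    have h5 := orderOf_dvd_natCard (⟨z, hz⟩ : Subgroup.center (SpecialLinearGroup (Fin m) F))
    rwa [Subgroup.orderOf_mk] at h5
  have h6 : 2 ^ (s + n) ∣ 2 ^ k * r := by
    rw [← h, h1, pow_add]
    exact mul_dvd_mul hd h4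
  have h7 : (2 ^ (s + n)).Coprime r := by
    apply Nat.Coprime.pow_left
    exact Nat.coprime_two_left.2 hr
  have h8 := h7.dvd_of_dvd_mul_right h6
  have h9 := (Nat.pow_dvd_pow_iff_le_right (by norm_num : 1 < 2)).1 h8
  omega

end Cfsg.Agent.GH.Models.Proj
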